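import Cfsg.Agent.Lib.Fus.Co2Stab.Data
import Cfsg.Agent.Lib.Spor.Cos.Co2Out.ActData
import Cfsg.Agent.Lib.Spor.Cos.Fi22.ActUData

/-!
Checks of the action of a point stabiliser in Co2 on 891 vectors and on 693 subsets of them.
-/

set_option autoImplicit false
set_option maxRecDepth 100000
set_option maxHeartbeats 1000000

open Cfsg.Agent.Spor.Cos

namespace Cfsg.Agent.Fus.Co2Stab

/-- The base elements as words. -/
def baseW : List (List ℕ) := Co2Out.o1W ++ Co2Out.o1W.map List.reverse

/-- A word of base elements. -/
noncomputable def flatW (w : List ℕ) : List ℕ := (w.map fun t => baseW.getD t []).flatten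

/-- The base elements on the orbit. -/
noncomputable def actO : Act := ⟨10, 891, baseT⟩

/-- The generators on the orbit. -/
noncomputable def actG : Act := ⟨9, 891, genT⟩

/-- A member of a subset. -/
noncomputable def mem (p j : ℕ) : ℕ := memT.at (27 * p + j)

/-- The base elements move the vectors of the orbit as in the table. -/
noncomputable def chkBase (i : ℕ) : Bool :=
  force (oT.at i) fun x => Nat.blt x 4600 && (Nat.blt 890 i || Nat.beq (i + 1) 891 || Nat.blt x (oT.at (i + 1))) &&
    (List.range 10).all fun s => force (actO.im i s) fun j =>
      Nat.blt j 891 && Nat.beq (Co2Out.actN.go (baseW.getD s []) x) (oT.at j)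

/-- The generators on the orbit are products of base elements. -/
noncomputable def chkGen (i : ℕ) : Bool :=
  (List.range 9).all fun s => Nat.beq (actO.go (genW.getD s []) i) (actG.im i s)

/-- A subset. -/
noncomputable def chkSet (p : ℕ) : Bool :=
  force (maskT.at p) fun m =>
    Nat.beq ((List.range 27).foldl (fun a j => Nat.lor a (2 ^ mem p j)) 0) m &&
    ((List.range 27).all fun j => Nat.blt (mem p j) 891) &&
    ((List.range 26).all fun j => Nat.blt (mem p j) (mem p (j + 1))) &&
    Nat.blt (posT.at p) 693 && Nat.beq (ordT.at (posT.at p)) p &&
    (Nat.beq (p + 1) 693 || Nat.blt (maskT.at (ordT.at p)) (maskT.at (ordT.at (p + 1))))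

/-- A generator maps a subset into the subset of its image. -/
noncomputable def chkImage (p : ℕ) : Bool :=
  (List.range 9).all fun s => force (maskT.at (Fi22.actU.im p s)) fun m =>
    (List.range 27).all fun j => Nat.testBit m (actG.im (mem p j) s)

theorem base_ok : ∀ i < 891, chkBase i = true :=
  of_blocks (size := 81) (b := 11) (by decide) (by decide) fun j hj => by interval_cases j <;> decide +kernel

theorem gen_ok : ∀ i < 891, chkGen i = true :=
  of_blocks (size := 81) (b := 11) (by decide) (by decide) fun j hj => by interval_cases j <;> decide +kernel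

theorem set_ok : ∀ p < 693, chkSet p = true :=
  of_blocks (size := 63) (b := 11) (by decide) (by decide) fun j hj => by interval_cases j <;> decide +kernel

theorem image_ok : ∀ p < 693, chkImage p = true :=
  of_blocks (size := 63) (b := 11) (by decide) (by decide) fun j hj => by interval_cases j <;> decide +kernel

theorem words_ok : Act.lettersOk 7 baseW = true ∧ Act.lettersOk 10 genW = true ∧
    (∀ w ∈ Co2Out.o1W, Co2Out.actN.go w 1492 = 1492) := by decide +kernel

end Cfsg.Agent.Fus.Co2Stab
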