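import Cfsg.Agent.Lib.Fus.Co2Stab.Checks
import Cfsg.Agent.Lib.Spor.Cos.Co2Out.Rep
import Cfsg.Agent.Lib.Spor.Cos.Fi22.Unit
import Cfsg.Agent.Lib.Spor.SUFieldCongr
import Cfsg.Agent.Lib.Lie.UThreeFive

/-!
The stabiliser of two vectors of norm 32 with product -16 is the unitary group `PSU₆(2)`: its elements permute 693
subsets of a suborbit of 891 vectors as the unitary group permutes its isotropic points.
-/

set_option autoImplicit false
set_option maxRecDepth 100000
set_option maxHeartbeats 1000000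

open Cfsg Cfsg.Agent.Spor Cfsg.Agent.Spor.Cos Leech

namespace Cfsg.Agent.Fus.Co2Stab

theorem ev_words {H : Type*} [Group H] (g : ℕ → H) : ∀ w : List ℕ,
    ev g (flatW w) = ev (fun t => ev g (baseW.getD t [])) w
  | [] => rfl
  | t :: w => by
    rw [flatW, List.map_cons, List.flatten_cons, ev_append, ev]
    exact congrArg _ (ev_words g w)

theorem baseW_lt (t : ℕ) : ∀ s ∈ baseW.getD t [], s < 7 := by
  rcases Nat.lt_or_ge t baseW.length with h | h
  · exact Act.lt_of_lettersOk words_ok.1 (by rw [List.getD_eq_getElem _ _ h]; exact List.getElem_mem _)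
  · rw [List.getD_eq_default _ _ h]; simp

/-- A point of the orbit. -/
noncomputable def pt (i : Fin 891) : Fin Co2Out.actN.N :=
  ⟨oT.at i, by
    have h := base_ok i i.2
    simp only [chkBase, force_eq, Bool.and_eq_true, Nat.blt_eq] at h
    exact h.1.1⟩

theorem pt_injective : Function.Injective pt := by
  have step : ∀ i, i + 1 < 891 → oT.at i < oT.at (i + 1) := fun i hi => by
    have h := base_ok i (by omega)
    simp only [chkBase, force_eq, Bool.and_eq_true, Bool.or_eq_true, Nat.blt_eq, Nat.beq_eq] at h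
    rcases h.1.2 with (h1 | h1) | h1
    · omega
    · omega
    · exact h1
  have mono : ∀ j i, i < j → j < 891 → oT.at i < oT.at j := by
    intro j
    induction j with
    | zero => intro i hi; omega
    | succ j ih =>
      intro i hi hj
      rcases Nat.lt_succ_iff_lt_or_eq.1 hi with h | rfl
      · exact (ih i h (by omega)).trans (step j hj)
      · exact step i hj
  intro a b e
  have e' : oT.at a = oT.at b := congrArg Fin.val e
  rcases lt_trichotomy (a : ℕ) b with h | h | h
  · exact absurd e' (mono _ _ h b.2).ne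
  · exact Fin.ext h
  · exact absurd e'.symm (mono _ _ h a.2).ne

theorem baseT_spec {t : ℕ} (ht : t < 10) (i : Fin 891) :
    ∃ h : actO.im i t < 891, Co2Out.pi (ev Co2Out.g (baseW.getD t [])) (pt i) = pt ⟨actO.im i t, h⟩ := by
  have h := base_ok i i.2
  simp only [chkBase, force_eq, Bool.and_eq_true, List.all_eq_true, List.mem_range, Nat.blt_eq, Nat.beq_eq] at h
  obtain ⟨h1, h2⟩ := h.2 t ht
  exact ⟨h1, Fin.ext ((Co2Out.homA.apply_ev _ (baseW_lt t) _).trans h2)⟩

theorem word_spec : ∀ w : List ℕ, (∀ t ∈ w, t < 10) → ∀ i : Fin 891, ∃ j : Fin 891, (j : ℕ) = actO.go w i ∧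
    Co2Out.pi (ev (fun t => ev Co2Out.g (baseW.getD t [])) w) (pt i) = pt j
  | [], _, i => ⟨i, rfl, by simp [ev]⟩
  | t :: w, h, i => by
    obtain ⟨j, hj, e⟩ := word_spec w (fun u hu => h u (List.mem_cons_of_mem _ hu)) i
    obtain ⟨hk, ek⟩ := baseT_spec (h t (List.mem_cons_self ..)) j
    exact ⟨⟨_, hk⟩, by rw [Act.go_cons, ← hj], by rw [ev, map_mul, Equiv.Perm.mul_apply, e, ek]⟩

theorem gen_lt (s : ℕ) : ∀ t ∈ genW.getD s [], t < 10 := by
  rcases Nat.lt_or_ge s genW.length with h | h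
  · exact Act.lt_of_lettersOk words_ok.2.1 (by rw [List.getD_eq_getElem _ _ h]; exact List.getElem_mem _)
  · rw [List.getD_eq_default _ _ h]; simp

/-! ### The subsets -/

/-- A subset. -/
noncomputable def subset (p : ℕ) : Finset (Fin 891) :=
  Finset.univ.filter fun i : Fin 891 => (maskT.at p).testBit i = true

theorem testBit_fold (f : ℕ → ℕ) (i : ℕ) : ∀ (n a : ℕ),
    ((List.range n).foldl (fun a j => Nat.lor a (2 ^ f j)) a).testBit i = true ↔
      a.testBit i = true ∨ ∃ j < n, f j = i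
  | 0, a => by simp
  | n + 1, a => by
    rw [List.range_succ, List.foldl_append, List.foldl_cons, List.foldl_nil]
    rw [show ∀ a b : ℕ, Nat.lor a b = a ||| b from fun _ _ => rfl, Nat.testBit_or, Bool.or_eq_true, testBit_fold f i n a, Nat.testBit_two_pow, decide_eq_true_eq]
    constructor
    · rintro ((h | ⟨j, hj, e⟩) | e)
      exacts [Or.inl h, Or.inr ⟨j, by omega, e⟩, Or.inr ⟨n, by omega, e⟩]
    · rintro (h | ⟨j, hj, e⟩)
      · exact Or.inl (Or.inl h)
      · rcases Nat.lt_succ_iff_lt_or_eq.1 hj with h | rfl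
        exacts [Or.inl (Or.inr ⟨j, h, e⟩), Or.inr e]

theorem mask_bit {p : ℕ} (hp : p < 693) (i : ℕ) :
    (maskT.at p).testBit i = true ↔ ∃ j < 27, mem p j = i := by
  have h := set_ok p hp
  simp only [chkSet, force_eq, Bool.and_eq_true, Nat.beq_eq] at h
  conv_lhs => rw [← h.1.1.1.1.1]
  rw [testBit_fold (mem p) i 27 0]
  simp

theorem mem_lt {p : ℕ} (hp : p < 693) {j : ℕ} (hj : j < 27) : mem p j < 891 := by
  have h := set_ok p hp
  simp only [chkSet, force_eq, Bool.and_eq_true, List.all_eq_true, List.mem_range, Nat.blt_eq] at h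
  exact h.1.1.1.1.2 j hj

theorem mem_mono {p : ℕ} (hp : p < 693) : ∀ b a, a < b → b < 27 → mem p a < mem p b := by
  have step : ∀ a, a + 1 < 27 → mem p a < mem p (a + 1) := fun a ha => by
    have h := set_ok p hp
    simp only [chkSet, force_eq, Bool.and_eq_true, List.all_eq_true, List.mem_range, Nat.blt_eq] at h
    exact h.1.1.1.2 a (by omega)
  intro b
  induction b with
  | zero => intro a ha; omega
  | succ b ih =>
    intro a ha hb
    rcases Nat.lt_succ_iff_lt_or_eq.1 ha with h | rfl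
    · exact (ih a h (by omega)).trans (step b hb)
    · exact step a hb

theorem card_subset {p : ℕ} (hp : p < 693) : (subset p).card = 27 := by
  have e : subset p = (Finset.univ : Finset (Fin 27)).image fun j : Fin 27 => (⟨mem p j, mem_lt hp j.2⟩ : Fin 891) := by
    ext i
    simp only [subset, Finset.mem_filter, Finset.mem_univ, true_and, Finset.mem_image, mask_bit hp]
    exact ⟨fun ⟨j, hj, e⟩ => ⟨⟨j, hj⟩, Fin.ext e⟩, fun ⟨j, e⟩ => ⟨j, j.2, congrArg Fin.val e⟩⟩
  rw [e, Finset.card_image_of_injective _ fun a b h => ?_]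
  · simp
  · have h' : mem p a = mem p b := congrArg Fin.val h
    rcases lt_trichotomy (a : ℕ) b with l | l | l
    · exact absurd h' (mem_mono hp _ _ l b.2).ne
    · exact Fin.ext l
    · exact absurd h'.symm (mem_mono hp _ _ l a.2).ne

theorem mask_eq {p q : ℕ} (hp : p < 693) (hq : q < 693) (e : subset p = subset q) : maskT.at p = maskT.at q := by
  refine Nat.eq_of_testBit_eq fun i => Bool.eq_iff_iff.2 ?_
  rcases Nat.lt_or_ge i 891 with hi | hi
  · have h := congrArg (fun S : Finset (Fin 891) => (⟨i, hi⟩ : Fin 891) ∈ S) e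
    simpa [subset] using h
  · constructor <;> intro h
    · obtain ⟨j, hj, rfl⟩ := (mask_bit hp i).1 h
      exact absurd (mem_lt hp hj) (by omega)
    · obtain ⟨j, hj, rfl⟩ := (mask_bit hq i).1 h
      exact absurd (mem_lt hq hj) (by omega)

theorem subset_injective {p q : Fin Fi22.actU.N} (e : subset p = subset q) : p = q := by
  have hpos : ∀ r < 693, posT.at r < 693 ∧ ordT.at (posT.at r) = r ∧
      (r + 1 = 693 ∨ maskT.at (ordT.at r) < maskT.at (ordT.at (r + 1))) := fun r hr => by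
    have h := set_ok r hr
    simp only [chkSet, force_eq, Bool.and_eq_true, Bool.or_eq_true, Nat.blt_eq, Nat.beq_eq] at h
    exact ⟨h.1.1.2, h.1.2, h.2⟩
  have mono : ∀ b a, a < b → b < 693 → maskT.at (ordT.at a) < maskT.at (ordT.at b) := by
    intro b
    induction b with
    | zero => intro a ha; omega
    | succ b ih =>
      intro a ha hb
      have hs := ((hpos b (by omega)).2.2).resolve_left (by omega)
      rcases Nat.lt_succ_iff_lt_or_eq.1 ha with h | rfl
      · exact (ih a h (by omega)).trans hs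
      · exact hs
  have hm := mask_eq p.2 q.2 e
  obtain ⟨a1, a2, -⟩ := hpos p p.2
  obtain ⟨b1, b2, -⟩ := hpos q q.2
  apply Fin.ext
  rcases lt_trichotomy (posT.at p) (posT.at q) with l | l | l
  · have := mono _ _ l b1
    rw [a2, b2, hm] at this
    exact absurd this (lt_irrefl _)
  · rw [← a2, ← b2, l]
  · have := mono _ _ l a1
    rw [a2, b2, hm] at this
    exact absurd this (lt_irrefl _)

/-! ### The vector and its stabiliser -/

/-- The vector of a point of the table. -/
def IsVec (k : ℕ) (v : leechLattice) : Prop := sqNorm (v : Vec) = 32 ∧ encV (v : Vec) = co2sC.X k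

theorem IsVec.step {k : ℕ} {v : leechLattice} (hv : IsVec k v) (hk : k < 4600) {s : ℕ} (hs : s < 7) :
    IsVec (Co2Out.actN.im k s) ((Co2Out.g s : Co0) • v) := by
  refine ⟨(co_norm _ v).trans hv.1, ?_⟩
  have hmem : Co2Out.opW.getD s [] ∈ Co2Out.opW := by
    have hs' : s < Co2Out.opW.length := by rw [show Co2Out.opW.length = 7 from rfl]; exact hs
    rw [List.getD_eq_getElem _ _ hs']; exact List.getElem_mem _
  obtain ⟨hop, hwf⟩ := fixes_of_chk Co2Out.op_gens hmem
  have hp := List.all_eq_true.1 (Co2Out.act_img k hk) s (List.mem_range.2 (by exact hs))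
  rw [Cos.force_eq, forceN_eq, appWF_eq] at hp
  have hp' := Nat.eq_of_beq_eq_true hp
  rw [← hv.2, appW_spec hop v (by rw [hv.1]; norm_num)] at hp'
  rw [show (Co2Out.g s : Co0) = wordG (Co2Out.opW.getD s []) by rw [Co2Out.g, Leech.genW, dif_pos hwf]]
  exact hp'

theorem IsVec.word {k : ℕ} {v : leechLattice} (hv : IsVec k v) (hk : k < 4600) :
    ∀ w : List ℕ, (∀ s ∈ w, s < 7) → IsVec (Co2Out.actN.go w k) (((ev Co2Out.g w : ↥Co2Out.H) : Co0) • v) ∧
      Co2Out.actN.go w k < 4600
  | [], _ => ⟨by simpa [ev, Act.go_nil] using hv, hk⟩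
  | s :: w, h => by
    obtain ⟨h1, h2⟩ := IsVec.word hv hk w fun t ht => h t (List.mem_cons_of_mem _ ht)
    have hs : s < 7 := h s (List.mem_cons_self ..)
    rw [Act.go_cons, ev, Subgroup.coe_mul, mul_smul]
    refine ⟨h1.step h2 hs, ?_⟩
    have h3 := List.all_eq_true.1 (Co2Out.act_inv _ h2) s (List.mem_range.2 hs)
    rw [Cos.force_eq, Bool.and_eq_true] at h3
    exact Nat.le_of_ble_eq_true h3.1

theorem IsVec.unique {k : ℕ} {v v' : leechLattice} (hv : IsVec k v) (hv' : IsVec k v') : v = v' :=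
  Subtype.ext (encV_inj (small_of_norm (by rw [hv.1]; norm_num)) (small_of_norm (by rw [hv'.1]; norm_num))
    (hv.2.trans hv'.2.symm))

/-- The root of the certificate. -/
def bR : leechLattice := mkL co2sX0 (by decide +kernel)

theorem bR_mem : bR ∈ shellOne TwoPairs.bV (-16) := ⟨by decide +kernel, by decide +kernel⟩

theorem exists_vec : ∃ v ∈ shellOne TwoPairs.bV (-16), IsVec 1492 v := by
  obtain ⟨hgC, hroot, hstart, -, hnodes, -, -, -⟩ := co2s_checks
  obtain ⟨f, hf, hfx⟩ := reach (x0 := bR) bR_mem.1 (by rw [show (bR : Vec) = ofList co2sX0 from mkL_val _ _]; exact hstart) hgC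
    hnodes _ 1492 (by decide +kernel) rfl
  have hv : f • TwoPairs.bV = TwoPairs.bV :=
    hf _ (List.mem_singleton_self _) TwoPairs.bV (mkL_val _ _)
  exact ⟨f • bR, (smul_mem_shellOne hv).2 bR_mem, (co_norm f _).trans bR_mem.1, hfx⟩

/-- The vector. -/
noncomputable def vW : leechLattice := exists_vec.choose

theorem vW_mem : vW ∈ shellOne TwoPairs.bV (-16) := exists_vec.choose_spec.1

/-- Its stabiliser. -/
noncomputable abbrev K : Subgroup ↥Co2Out.H := (MulAction.stabilizer Co0 vW).comap Co2Out.H.subtype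

theorem card_K : Nat.card K = 9196830720 := by
  obtain ⟨hn, ht⟩ := TwoPairs.partners16 TwoPairs.bV_norm
  have horb : MulAction.orbit ↥(MulAction.stabilizer Co0 TwoPairs.bV) vW = shellOne TwoPairs.bV (-16) :=
    orbit_eq vW_mem (fun _ hg _ hz => (smul_mem_shellOne hg).2 hz) fun z hz => by
      obtain ⟨g, hga, he⟩ := ht vW vW_mem z hz
      exact ⟨g, hga, he⟩
  have h := StabSimple.card_eq (MulAction.stabilizer Co0 TwoPairs.bV) vW 4600 _ (by rw [horb, hn]) rfl
  rw [← Co2Out.H_eq, Co2Out.card_H] at h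
  have hK : Nat.card K = Nat.card ↥(Co2Out.H ⊓ MulAction.stabilizer Co0 vW) := by
    rw [← Nat.card_congr (Subgroup.subgroupOfEquivOfLe (inf_le_left (a := Co2Out.H)
      (b := MulAction.stabilizer Co0 vW))).toEquiv]
    congr 1
    have : (Co2Out.H ⊓ MulAction.stabilizer Co0 vW).subgroupOf Co2Out.H = K := by
      ext y
      exact ⟨fun hy => hy.2, fun hy => ⟨y.2, hy⟩⟩
    rw [this]
  rw [hK]
  omega

theorem base_mem (t : ℕ) : ev Co2Out.g (baseW.getD t []) ∈ K := by
  have pos : ∀ w ∈ Co2Out.o1W, ev Co2Out.g w ∈ K := fun w hw => by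
    have hl : ∀ s ∈ w, s < 7 := Act.lt_of_lettersOk words_ok.1 (List.mem_append_left _ hw)
    obtain ⟨h1, -⟩ := exists_vec.choose_spec.2.word (by norm_num) w hl
    rw [words_ok.2.2 w hw] at h1
    exact h1.unique exists_vec.choose_spec.2
  rcases Nat.lt_or_ge t baseW.length with h | h
  · rw [List.getD_eq_getElem _ _ h]
    rcases List.mem_append.1 (List.getElem_mem h) with hw | hw
    · exact pos _ hw
    · obtain ⟨w, hw', e⟩ := List.mem_map.1 hw
      rw [← e, ev_reverse (n := 7) (fun s _ => Co2Out.g_sq s) _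
        (Act.lt_of_lettersOk words_ok.1 (List.mem_append_left _ hw'))]
      exact K.inv_mem (pos _ hw')
  · rw [List.getD_eq_default _ _ h]
    exact K.one_mem

/-! ### The isomorphism -/

/-- The group of permutations of the isotropic points. -/
noncomputable abbrev U693 : Subgroup (Equiv.Perm (Fin Fi22.actU.N)) := Fi22.psiU.range

theorem card_U693 : Nat.card U693 = 9196830720 := by
  have := Fi22.finite
  rw [← Subgroup.index_ker, Fi22.ker_psiU]
  have h := (Subgroup.center Fi22.KH).index_mul_card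
  rw [Fi22.card_center, Fi22.card_KH] at h
  omega

theorem perm_mem (s : ℕ) (hs : s < 9) : Fi22.actU.perm s ∈ U693 := ⟨Fi22.hK s, Fi22.psiU_gen s⟩

/-- A pair agrees on the subsets. -/
def Agree (q : ↥K × ↥U693) : Prop :=
  ∀ i : Fin 891, ∃ j : Fin 891, Co2Out.pi (q.1 : ↥Co2Out.H) (pt i) = pt j ∧
    ∀ p : Fin Fi22.actU.N, i ∈ subset p → j ∈ subset ((q.2 : Equiv.Perm (Fin Fi22.actU.N)) p)

theorem Agree.one : Agree 1 := fun i => ⟨i, by simp, fun p hp => by simpa using hp⟩

theorem Agree.mul {a b : ↥K × ↥U693} (ha : Agree a) (hb : Agree b) : Agree (a * b) := fun i => by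
  obtain ⟨j, hj, hj'⟩ := hb i
  obtain ⟨k, hk, hk'⟩ := ha j
  refine ⟨k, ?_, fun p hp => hk' _ (hj' p hp)⟩
  show Co2Out.pi ((a.1 : ↥Co2Out.H) * (b.1 : ↥Co2Out.H)) (pt i) = _
  rw [map_mul, Equiv.Perm.mul_apply, hj, hk]

theorem Agree.unique {k : ↥K} {σ τ : ↥U693} (h1 : Agree (k, σ)) (h2 : Agree (k, τ)) : σ = τ := by
  refine Subtype.ext (Equiv.ext fun p => subset_injective ?_)
  choose f hf hf' using h1
  choose f' hg hg' using h2
  have e : f = f' := funext fun i => pt_injective ((hf i).symm.trans (hg i))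
  subst e
  have finj : Function.Injective f := fun a b h =>
    pt_injective ((Co2Out.pi (k : ↥Co2Out.H)).injective (by rw [hf a, hf b, h]))
  have key : ∀ (π : Equiv.Perm (Fin Fi22.actU.N)), (∀ i, i ∈ subset p → f i ∈ subset (π p)) →
      (subset p).image f = subset (π p) := fun π hπ =>
    Finset.eq_of_subset_of_card_le (fun j hj => by
      obtain ⟨i, hi, rfl⟩ := Finset.mem_image.1 hj
      exact hπ i hi)
      (by rw [Finset.card_image_of_injective _ finj, card_subset p.2, card_subset (π p).2])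
  exact (key _ fun i hi => hf' i p hi).symm.trans (key _ fun i hi => hg' i p hi)

theorem agree_gen (s : ℕ) (hs : s < 9) : ∃ k : ↥K, Agree (k, ⟨_, perm_mem s hs⟩) := by
  have hk : ev (fun t => ev Co2Out.g (baseW.getD t [])) (genW.getD s []) ∈ K :=
    ev_mem _ fun t _ => base_mem t
  refine ⟨⟨_, hk⟩, fun i => ?_⟩
  obtain ⟨j, hj, e⟩ := word_spec _ (gen_lt s) i
  refine ⟨j, e, fun p hp => ?_⟩
  have hg := gen_ok i i.2
  simp only [chkGen, List.all_eq_true, List.mem_range, Nat.beq_eq] at hg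
  rw [hg s hs] at hj
  simp only [subset, Finset.mem_filter, Finset.mem_univ, true_and] at hp ⊢
  obtain ⟨m, hm, em⟩ := (mask_bit p.2 i).1 hp
  have hi := image_ok p p.2
  simp only [chkImage, force_eq, List.all_eq_true, List.mem_range] at hi
  show (maskT.at (Fi22.actU.perm s p : ℕ)).testBit j = true
  rw [Fi22.actU.perm_apply Fi22.actU_inv hs, hj, ← em]
  exact hi s hs m hm

theorem nonempty_K (F : Type) [Field F] [Fintype F] (hF : Fintype.card F = 4) : Nonempty (PSU 6 F 2 ≃* K) := by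
  classical
  have := Fi22.finite
  let gens : Set (↥K × ↥U693) := {q | ∃ s, ∃ hs : s < 9, q.2 = ⟨_, perm_mem s hs⟩ ∧ Agree q}
  let Y : Subgroup (↥K × ↥U693) := Subgroup.closure gens
  have hY : ∀ q ∈ Y, Agree q := fun q hq =>
    Lie.UThreeFive.mem_of_left (P := Agree) hq Agree.one fun x ⟨_, _, _, hx⟩ y hy => hx.mul hy
  let f1 : Y →* ↥K := (MonoidHom.fst _ _).comp Y.subtype
  let f2 : Y →* ↥U693 := (MonoidHom.snd _ _).comp Y.subtype
  have hf1 : Function.Injective f1 := by
    rintro ⟨⟨a1, a2⟩, ha⟩ ⟨⟨b1, b2⟩, hb⟩ e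
    have e1 : a1 = b1 := e
    subst e1
    exact Subtype.ext (Prod.ext rfl (Agree.unique (hY _ ha) (hY _ hb)))
  have hf2 : Function.Surjective f2 := by
    rw [← MonoidHom.range_eq_top, ← top_le_iff, ← (Subgroup.map_le_map_iff_of_injective U693.subtype_injective),
      ← MonoidHom.range_eq_map, Subgroup.range_subtype]
    show Fi22.psiU.range ≤ _
    rw [MonoidHom.range_eq_map, ← Fi22.hK_gen, MonoidHom.map_closure, Subgroup.closure_le]
    rintro _ ⟨_, ⟨s, hs, rfl⟩, rfl⟩
    obtain ⟨k, hk⟩ := agree_gen s hs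
    exact ⟨⟨_, perm_mem s hs⟩, ⟨⟨(k, ⟨_, perm_mem s hs⟩), Subgroup.subset_closure ⟨s, hs, rfl, hk⟩⟩, rfl⟩,
      (Fi22.psiU_gen s).symm⟩
  have hY1 : Nat.card Y ≤ Nat.card K := Nat.card_le_card_of_injective f1 hf1
  have hY2 : Nat.card U693 ≤ Nat.card Y := Nat.card_le_card_of_surjective f2 hf2
  rw [card_K] at hY1
  rw [card_U693] at hY2
  have b1 : Function.Bijective f1 :=
    (Nat.bijective_iff_injective_and_card f1).2 ⟨hf1, by rw [card_K]; omega⟩
  have b2 : Function.Bijective f2 :=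
    (Nat.bijective_iff_surjective_and_card f2).2 ⟨hf2, by rw [card_U693]; omega⟩
  obtain ⟨eU⟩ := Fi22.nonempty_quotient
  let eR : (Fi22.KH ⧸ Subgroup.center Fi22.KH) ≃* ↥U693 :=
    (QuotientGroup.quotientMulEquivOfEq Fi22.ker_psiU.symm).trans (QuotientGroup.quotientKerEquivRange Fi22.psiU)
  let φ : F4 ≃+* F := FiniteField.ringEquivOfCardEq (by rw [hF]; rfl)
  let e : SU 6 F4 2 ≃* SU 6 F 2 := SUCongr.equiv 2 φ
  have hc : (Subgroup.center (SU 6 F4 2)).map (e : SU 6 F4 2 →* SU 6 F 2) = Subgroup.center (SU 6 F 2) := by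
    ext y
    constructor
    · rintro ⟨x, hx, rfl⟩
      refine Subgroup.mem_center_iff.2 fun z => ?_
      obtain ⟨w, rfl⟩ := e.surjective z
      show e w * e x = e x * e w
      rw [← map_mul, ← map_mul, Subgroup.mem_center_iff.1 hx w]
    · intro hy
      refine ⟨e.symm y, Subgroup.mem_center_iff.2 fun z => e.injective ?_, e.apply_symm_apply y⟩
      rw [map_mul, map_mul, e.apply_symm_apply, Subgroup.mem_center_iff.1 hy (e z)]
  let eF : PSU 6 F4 2 ≃* PSU 6 F 2 := QuotientGroup.congr _ _ e hc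
  exact ⟨eF.symm.trans (eU.symm.trans (eR.trans
    ((MulEquiv.ofBijective f2 b2).symm.trans (MulEquiv.ofBijective f1 b1))))⟩

theorem nonempty_stab {v w : leechLattice} (hv : sqNorm (v : Vec) = 32) (hw : w ∈ shellOne v (-16))
    (F : Type) [Field F] [Fintype F] (hF : Fintype.card F = 4) :
    Nonempty (↥(MulAction.stabilizer Co0 v ⊓ MulAction.stabilizer Co0 w) ≃* PSU 6 F 2) := by
  obtain ⟨h0, e1⟩ := exists_move32 hv TwoPairs.bV_norm
  obtain ⟨h, h1, h2⟩ := step_one e1 (TwoPairs.partners16 TwoPairs.bV_norm).2 hw vW_mem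
  obtain ⟨eK⟩ := nonempty_K F hF
  have hmem : ∀ y : Co0, y ∈ MulAction.stabilizer Co0 v ⊓ MulAction.stabilizer Co0 w ↔
      h * y * h⁻¹ ∈ Co2Out.H ⊓ MulAction.stabilizer Co0 vW := fun y => by
    rw [Co2Out.H_eq]
    simp only [Subgroup.mem_inf, MulAction.mem_stabilizer_iff, mul_smul, ← h1, ← h2, inv_smul_smul,
      smul_left_cancel_iff]
  let e : ↥(MulAction.stabilizer Co0 v ⊓ MulAction.stabilizer Co0 w) ≃* ↥K :=
    { toFun := fun y => ⟨⟨h * y.1 * h⁻¹, ((hmem y.1).1 y.2).1⟩, ((hmem y.1).1 y.2).2⟩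
      invFun := fun k => ⟨h⁻¹ * (k.1 : Co0) * h, (hmem _).2 (by
        rw [show h * (h⁻¹ * (k.1 : Co0) * h) * h⁻¹ = (k.1 : Co0) by group]
        exact ⟨k.1.2, k.2⟩)⟩
      left_inv := fun y => Subtype.ext (by show h⁻¹ * (h * y.1 * h⁻¹) * h = y.1; group)
      right_inv := fun k => Subtype.ext (Subtype.ext (by show h * (h⁻¹ * (k.1 : Co0) * h) * h⁻¹ = k.1; group))
      map_mul' := fun a b => Subtype.ext (Subtype.ext (by
        show h * (a.1 * b.1) * h⁻¹ = (h * a.1 * h⁻¹) * (h * b.1 * h⁻¹); group)) }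
  exact ⟨e.trans eK.symm⟩

end Cfsg.Agent.Fus.Co2Stab
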